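import Cfsg.Agent.H90.SiftFi22.Data
import Cfsg.Agent.CosetEnum.Fi22.THData

/-! Check (generated, owner: helper90). -/

set_option autoImplicit false
set_option maxRecDepth 1000000

namespace Cfsg.Agent.H90.SiftFi22

open Cfsg.Agent.CosetEnum Cfsg.Agent.H90.Sift

theorem n0 : allR (newB P Cfsg.Agent.CosetEnum.Fi22TH.P ws) 0 1290 = true := by decide +kernel

end Cfsg.Agent.H90.SiftFi22
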