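import Cfsg.Agent.H90.SiftFi22.Data
import Cfsg.Agent.H90.SiftMain

/-! Check (generated, owner: helper90). -/

set_option autoImplicit false
set_option maxRecDepth 1000000

namespace Cfsg.Agent.H90.SiftFi22

open Cfsg.Agent.CosetEnum Cfsg.Agent.H90.Sift

theorem small : smallB P bs 13 10 1 6 0x3 0x4 2 0x9 0x12 0 R = true := by decide +kernel

theorem c1 : candA P R bs true 1 2 0x4 0x3 5 6 gs v1 = true := by decide +kernel

theorem c2 : candA P R bs true 0x9 0x12 0x4 0x3 e2 6 gs v2 = true := by decide +kernel

theorem fil : filB P 1 0x9 gc = true := by decide +kernel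

end Cfsg.Agent.H90.SiftFi22
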