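import Cfsg.Agent.H90.SiftMain
import Cfsg.Agent.H90.SiftFi22.Small
import Cfsg.Agent.H90.SiftFi22.N0
import Cfsg.Agent.H90.SiftFi22.N1
import Cfsg.Agent.H90.SiftFi22.N2
import Cfsg.Agent.H90.SiftFi22.A0
import Cfsg.Agent.H90.SiftFi22.A1
import Cfsg.Agent.H90.SiftFi22.A2
import Cfsg.Agent.H90.SiftFi22.A3
import Cfsg.Agent.H90.SiftFi22.A4
import Cfsg.Agent.H90.SiftFi22.B0
import Cfsg.Agent.H90.SiftFi22.B1
import Cfsg.Agent.H90.SiftFi22.B2
import Cfsg.Agent.H90.SiftFi22.B3
import Cfsg.Agent.H90.SiftFi22.B4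
import Cfsg.Agent.H90.SiftFi22.SA0
import Cfsg.Agent.H90.SiftFi22.SB0
import Cfsg.Agent.H90.SiftFi22.SB1
import Cfsg.Agent.H90.SiftFi22.SB2
import Cfsg.Agent.H90.SiftFi22.SC0

/-! Assembly (generated, owner: helper90). -/

set_option autoImplicit false
set_option maxRecDepth 1000000

namespace Cfsg.Agent.H90.SiftFi22

open Cfsg.Agent.CosetEnum Cfsg.Agent.H90.Sift

open Subgroup

theorem ncov : Cov (newB P Cfsg.Agent.CosetEnum.Fi22TH.P ws) 0 P.m :=
  (((Cov.of n0 rfl).trans (Cov.of n1 rfl)).trans (Cov.of n2 rfl))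

section

variable {G : Type*} [Group G] [MulAction G (Fin P.m)] {g : ℕ → G} (h : LettersOK P g)

include h

theorem levA0 : LevC P (closure ({g 1, g 3, g 5} : Set G)) [] 124 mA0 3510 0 3510 :=
    (show LevC P (closure ({g 1, g 3, g 5} : Set G)) [] 124 mA0 _ _ _ from (lvS_sound h.ra h.mem (b := 124) (show 124 < 3510 by norm_num) a0_0))

theorem levA1 : LevC P (closure ({g 1, g 3, g 5} : Set G)) [124] 154 mA1 693 0 3510 :=
    (show LevC P (closure ({g 1, g 3, g 5} : Set G)) [124] 154 mA1 _ _ _ from (lvS_sound h.ra h.mem (b := 154) (show 154 < 3510 by norm_num) a1_0))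

theorem levA2 : LevC P (closure ({g 1, g 3, g 5} : Set G)) [154, 124] 153 mA2 512 0 3510 :=
    (show LevC P (closure ({g 1, g 3, g 5} : Set G)) [154, 124] 153 mA2 _ _ _ from (lvS_sound h.ra h.mem (b := 153) (show 153 < 3510 by norm_num) a2_0))

theorem levA3 : LevC P (closure ({g 1, g 3, g 5} : Set G)) [153, 154, 124] 243 mA3 432 0 3510 :=
    (((show LevC P (closure ({g 1, g 3, g 5} : Set G)) [153, 154, 124] 243 mA3 _ _ _ from (lvS_sound h.ra h.mem (b := 243) (show 243 < 3510 by norm_num) a3_0)).append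
      (lvS_sound h.ra h.mem (b := 243) (show 243 < 3510 by norm_num) a3_1)).append
      (lvS_sound h.ra h.mem (b := 243) (show 243 < 3510 by norm_num) a3_2))

theorem levA4 : LevC P (closure ({g 1, g 3, g 5} : Set G)) [243, 153, 154, 124] 3047 mA4 20 0 3510 :=
    (show LevC P (closure ({g 1, g 3, g 5} : Set G)) [243, 153, 154, 124] 3047 mA4 _ _ _ from (lvS_sound h.ra h.mem (b := 3047) (show 3047 < 3510 by norm_num) a4_0))

theorem levA5 : LevC P (closure ({g 1, g 3, g 5} : Set G)) [3047, 243, 153, 154, 124] 203 mA5 3 0 3510 :=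
    (show LevC P (closure ({g 1, g 3, g 5} : Set G)) [3047, 243, 153, 154, 124] 203 mA5 _ _ _ from (lvS_sound h.ra h.mem (b := 203) (show 203 < 3510 by norm_num) a5_0))

theorem levA6 : LevC P (closure ({g 1, g 3, g 5} : Set G)) [203, 3047, 243, 153, 154, 124] 538 mA6 2 0 3510 :=
    (show LevC P (closure ({g 1, g 3, g 5} : Set G)) [203, 3047, 243, 153, 154, 124] 538 mA6 _ _ _ from (lvS_sound h.ra h.mem (b := 538) (show 538 < 3510 by norm_num) a6_0))

theorem chainA : ChP P (closure ({g 1, g 3, g 5} : Set G)) lA [] :=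
  ⟨(show 124 < 3510 by norm_num), (levA0 h).1, ⟨(show 154 < 3510 by norm_num), (levA1 h).1, ⟨(show 153 < 3510 by norm_num), (levA2 h).1, ⟨(show 243 < 3510 by norm_num), (levA3 h).1, ⟨(show 3047 < 3510 by norm_num), (levA4 h).1, ⟨(show 203 < 3510 by norm_num), (levA5 h).1, ⟨(show 538 < 3510 by norm_num), (levA6 h).1, trivial⟩⟩⟩⟩⟩⟩⟩

theorem levB0 : LevC P (closure ({g 1, g 3, g 5} : Set G)) [] 2978 mB0 3510 0 3510 :=
    (show LevC P (closure ({g 1, g 3, g 5} : Set G)) [] 2978 mB0 _ _ _ from (lvS_sound h.ra h.mem (b := 2978) (show 2978 < 3510 by norm_num) b0_0))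

theorem levB1 : LevC P (closure ({g 1, g 3, g 5} : Set G)) [2978] 1416 mB1 693 0 3510 :=
    (show LevC P (closure ({g 1, g 3, g 5} : Set G)) [2978] 1416 mB1 _ _ _ from (lvS_sound h.ra h.mem (b := 1416) (show 1416 < 3510 by norm_num) b1_0))

theorem levB2 : LevC P (closure ({g 1, g 3, g 5} : Set G)) [1416, 2978] 464 mB2 512 0 3510 :=
    (show LevC P (closure ({g 1, g 3, g 5} : Set G)) [1416, 2978] 464 mB2 _ _ _ from (lvS_sound h.ra h.mem (b := 464) (show 464 < 3510 by norm_num) b2_0))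

theorem levB3 : LevC P (closure ({g 1, g 3, g 5} : Set G)) [464, 1416, 2978] 3001 mB3 432 0 3510 :=
    (((show LevC P (closure ({g 1, g 3, g 5} : Set G)) [464, 1416, 2978] 3001 mB3 _ _ _ from (lvS_sound h.ra h.mem (b := 3001) (show 3001 < 3510 by norm_num) b3_0)).append
      (lvS_sound h.ra h.mem (b := 3001) (show 3001 < 3510 by norm_num) b3_1)).append
      (lvS_sound h.ra h.mem (b := 3001) (show 3001 < 3510 by norm_num) b3_2))

theorem levB4 : LevC P (closure ({g 1, g 3, g 5} : Set G)) [3001, 464, 1416, 2978] 1579 mB4 30 0 3510 :=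
    (show LevC P (closure ({g 1, g 3, g 5} : Set G)) [3001, 464, 1416, 2978] 1579 mB4 _ _ _ from (lvS_sound h.ra h.mem (b := 1579) (show 1579 < 3510 by norm_num) b4_0))

theorem levB5 : LevC P (closure ({g 1, g 3, g 5} : Set G)) [1579, 3001, 464, 1416, 2978] 467 mB5 4 0 3510 :=
    (show LevC P (closure ({g 1, g 3, g 5} : Set G)) [1579, 3001, 464, 1416, 2978] 467 mB5 _ _ _ from (lvS_sound h.ra h.mem (b := 467) (show 467 < 3510 by norm_num) b5_0))

theorem chainB : ChP P (closure ({g 1, g 3, g 5} : Set G)) lB [] :=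
  ⟨(show 2978 < 3510 by norm_num), (levB0 h).1, ⟨(show 1416 < 3510 by norm_num), (levB1 h).1, ⟨(show 464 < 3510 by norm_num), (levB2 h).1, ⟨(show 3001 < 3510 by norm_num), (levB3 h).1, ⟨(show 1579 < 3510 by norm_num), (levB4 h).1, ⟨(show 467 < 3510 by norm_num), (levB5 h).1, trivial⟩⟩⟩⟩⟩⟩

end

theorem basedA : Based P 1 lA := ⟨Nat.eq_of_beq_eq_true (by decide +kernel : Nat.beq (run P 1 124) 154 = true), ⟨Nat.eq_of_beq_eq_true (by decide +kernel : Nat.beq (run P 1 154) 153 = true), ⟨Nat.eq_of_beq_eq_true (by decide +kernel : Nat.beq (run P 1 153) 243 = true), ⟨Nat.eq_of_beq_eq_true (by decide +kernel : Nat.beq (run P 1 243) 3047 = true), ⟨Nat.eq_of_beq_eq_true (by decide +kernel : Nat.beq (run P 1 3047) 203 = true), ⟨Nat.eq_of_beq_eq_true (by decide +kernel : Nat.beq (run P 1 203) 538 = true), trivial⟩⟩⟩⟩⟩⟩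

theorem ltA : ∀ t ∈ lA, t.1 < P.m := by decide +kernel

theorem basedB : Based P 3 lB := ⟨Nat.eq_of_beq_eq_true (by decide +kernel : Nat.beq (run P 3 2978) 1416 = true), ⟨Nat.eq_of_beq_eq_true (by decide +kernel : Nat.beq (run P 3 1416) 464 = true), ⟨Nat.eq_of_beq_eq_true (by decide +kernel : Nat.beq (run P 3 464) 3001 = true), ⟨Nat.eq_of_beq_eq_true (by decide +kernel : Nat.beq (run P 3 3001) 1579 = true), ⟨Nat.eq_of_beq_eq_true (by decide +kernel : Nat.beq (run P 3 1579) 467 = true), trivial⟩⟩⟩⟩⟩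

theorem ltB : ∀ t ∈ lB, t.1 < P.m := by decide +kernel

section

variable {G : Type*} [Group G] [MulAction G (Fin P.m)] {g : ℕ → G} (h : RA P g)

include h

theorem covA (hx : ExP G P lA []) : CovP P (elt g 1) (elt g 0x1) {z | ∃ w ∈ [0], z = elt g w} 124 0 P.m :=
  (CovP.of h hx ltA basedA (show pts P 0x1 _ _ [0] (lms lA) _ _ _ = true from sA0) rfl (by decide +kernel))

theorem covB (hx : ExP G P lB []) : CovP P (elt g 3) (elt g 0x3) {z | ∃ w ∈ (gs.map fun t => t.1), z = elt g w} 2978 0 P.m :=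
  (((CovP.of h hx ltB basedB (show pts P 0x3 _ _ (gs.map fun t => t.1) (lms lB) _ _ _ = true from sB0) rfl (by decide +kernel)).trans
    (CovP.of h hx ltB basedB (show pts P 0x3 _ _ (gs.map fun t => t.1) (lms lB) _ _ _ = true from sB1) rfl (by decide +kernel))).trans
    (CovP.of h hx ltB basedB (show pts P 0x3 _ _ (gs.map fun t => t.1) (lms lB) _ _ _ = true from sB2) rfl (by decide +kernel)))

theorem covC (hx : ExP G P lA []) : CovP P (elt g 1) (elt g 0x9) {z | ∃ w ∈ (gc.map fun t => t.1), z = elt g w} 124 0 P.m :=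
  (CovP.of h hx ltA basedA (show pts P 0x9 _ _ (gc.map fun t => t.1) (lms lA) _ _ _ = true from sC0) rfl (by decide +kernel))

end


theorem hks : ∀ m < 13, m ≠ 0 → ∃ a : ℕ, (10 ^ a * m) % 13 = 1 ∨ (10 ^ a * m) % 13 = 2 := by
  have h : ∀ m < 13, m ≠ 0 → ∃ a < 13, (10 ^ a * m) % 13 = 1 ∨ (10 ^ a * m) % 13 = 2 := by decide +kernel
  intro m h1 h2
  obtain ⟨a, _, h3⟩ := h m h1 h2
  exact ⟨a, h3⟩

theorem concl {G : Type} [Group G] [Finite G] {f : ℕ → G} (hN : Nat.card G = 64561751654400) [MulAction G (Fin P.m)] (h : LettersOK P (newL f ws)) :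
    Concl G (newL f ws 1) (newL f ws 3) (newL f ws 5) ((newL f ws 1) ^ 2) (elt (newL f ws) e2) (true = true) ∧
      closure ({newL f ws 1, newL f ws 3, newL f ws 5} : Set G) = ⊤ ∧ ExP G P lA [] ∧ ExP G P lB [] := by
  have cA := chainA h
  have cB := chainB h
  have hcA : Nat.card G ≤ (lA.map fun t => t.2.2).prod := by rw [hN]; decide +kernel
  have hcB : Nat.card G ≤ (lB.map fun t => t.2.2).prod := by rw [hN]; decide +kernel
  have xA := cA.exact' hcA
  have xB := cB.exact' hcB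
  have : Fact (Nat.Prime 13) := ⟨by norm_num⟩
  refine ⟨?_, cA.top hcA, xA, xB⟩
  exact sift_main h (p := 13) (by rw [hN]; decide +kernel) (hB := xB) (bA := 124) (bB := 2978) (by decide +kernel) (by decide +kernel)
    (fun i hi => covA h.ra xA i (Nat.zero_le _) hi) (fun i hi => covB h.ra xB i (Nat.zero_le _) hi)
    ⟨4, 9, by decide +kernel, by decide +kernel⟩ hks small (by norm_num) c1 c2

end Cfsg.Agent.H90.SiftFi22
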